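import Cfsg.Agent.H757.Central

/-!
# S5242, pieces I4 and I5: the factor system modulo a central subgroup (helper877)

* `factor_saturated`: the factor system is saturated.
* `factor_realizable`: if `F` is realized by `G` then `F/A` is realized by `C_G(A)/A`.
-/

set_option autoImplicit false

namespace Cfsg.Agent.H877.Lim

open Cfsg Cfsg.FusionSystem

universe u v

/-- I5 -/
theorem factor_saturated (p : ℕ) [Fact p.Prime] {W : Type u} [Group W] {S : Subgroup W} [Finite S]
    (hS : IsPGroup p S) (F : Cfsg.FusionSystem S) (hF : F.IsSaturated p) (A : Subgroup W) (hA : F.IsCentral A)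
    {W' : Type v} [Group W'] {S' : Subgroup W'} (θ : ↥S →* W') (E : Cfsg.FusionSystem S')
    (hE : F.IsFactorSystem A θ E) : E.IsSaturated p :=
  H759.isSaturated_factor hS hF (H757.IsCentral.stronglyClosed hA) hE

/-- a finite group is isomorphic to a group in any universe -/
theorem exists_equiv (K : Type u) [Group K] [Finite K] :
    ∃ (K' : Type v) (_ : Group K') (_ : Finite K'), Nonempty (K ≃* K') := by
  obtain ⟨n, ⟨e⟩⟩ := Finite.exists_equiv_fin K
  have key : ∀ (K' : Type v) (_ : K' ≃ K), ∃ _ : Group K', Nonempty (K ≃* K') := by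
    intro K' e'
    letI := e'.group
    exact ⟨inferInstance, ⟨e'.mulEquiv.symm⟩⟩
  obtain ⟨g, he⟩ := key (ULift.{v} (Fin n)) (Equiv.ulift.trans e.symm)
  exact ⟨_, g, inferInstance, he⟩

/-- realizability does not depend on the universe of the realizing group -/
theorem isRealizable_of {W : Type v} [Group W] {S : Subgroup W} {F : FusionSystem S} {p : ℕ} [Fact p.Prime]
    {K : Type u} [Group K] [Finite K] (ι : S →* K) (h : F.IsRealizedBy ι) (T : Sylow p K)
    (hT : (T : Subgroup K) = ι.range) : F.IsRealizable p := by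
  obtain ⟨K', _, hfin, ⟨e⟩⟩ := exists_equiv.{u, v} K
  refine ⟨K', _, hfin, e.toMonoidHom.comp ι, ⟨e.injective.comp h.1, fun P hP φ hφ => ?_⟩,
    T.mapSurjective (f := e.toMonoidHom) e.surjective, ?_⟩
  · rw [h.2 P hP φ hφ]
    constructor
    · rintro ⟨g, hg⟩
      refine ⟨e g, fun x => ?_⟩
      show e (ι _) = e g * e (ι _) * (e g)⁻¹
      rw [hg x, map_mul, map_mul, map_inv]
    · rintro ⟨g, hg⟩
      refine ⟨e.symm g, fun x => ?_⟩
      apply e.injective
      rw [map_mul, map_mul, map_inv, e.apply_symm_apply]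
      exact hg x
  · show Subgroup.map e.toMonoidHom (T : Subgroup K) = _
    rw [hT, MonoidHom.range_comp]

/-- I4 -/
theorem factor_realizable (p : ℕ) [Fact p.Prime] {W : Type u} [Group W] {S : Subgroup W} [Finite S]
    (hS : IsPGroup p S) (F : Cfsg.FusionSystem S) (hF : F.IsSaturated p) (A : Subgroup W) (hA : F.IsCentral A)
    {W' : Type v} [Group W'] {S' : Subgroup W'} [Finite S'] (θ : ↥S →* W') (E : Cfsg.FusionSystem S')
    (hE : F.IsFactorSystem A θ E) (hr : F.IsRealizable p) : E.IsRealizable p := by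
  obtain ⟨G, _, _, ι, ⟨hinj, hreal⟩, T, hT⟩ := hr
  obtain ⟨hAS, hker, hrange, hmem⟩ := hE
  -- the image of `A` in `G` and its centralizer
  set A' : Subgroup G := (A.subgroupOf S).map ι with hA'
  set C : Subgroup G := Subgroup.centralizer (A' : Set G) with hC
  have hAc : ∀ a ∈ A, ∀ s ∈ S, s * a * s⁻¹ = a := by
    intro a ha s hs
    exact H757.IsCentral.apply_eq hA (F.conj_mem le_rfl hs) (x := ⟨a, hAS ha⟩) ha
  have hιC : ∀ s : S, ι s ∈ C := by
    intro s
    rw [hC, Subgroup.mem_centralizer_iff]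
    rintro _ ⟨a, ha, rfl⟩
    rw [← map_mul, ← map_mul]
    congr 1
    apply Subtype.ext
    have h1 := hAc a ha s s.2
    show (a : W) * s = s * a
    have h2 : (s : W) * a = (s * a * (s : W)⁻¹) * s := by group
    rw [h2, h1]
  have hA'C : A' ≤ C := by
    rintro _ ⟨a, ha, rfl⟩
    exact hιC a
  -- the quotient
  have hN : (A'.subgroupOf C).Normal := by
    refine ⟨fun n hn g => ?_⟩
    rw [Subgroup.mem_subgroupOf] at hn ⊢
    have h1 := Subgroup.mem_centralizer_iff.1 g.2 n hn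
    have h2 : ((g * n * g⁻¹ : C) : G) = n := by
      show (g : G) * n * (g : G)⁻¹ = n
      rw [← h1]; group
    rw [h2]; exact hn
  set K := C ⧸ A'.subgroupOf C with hK
  set π : C →* K := QuotientGroup.mk' (A'.subgroupOf C) with hπ
  have hπs : Function.Surjective π := QuotientGroup.mk'_surjective _
  have hπ1 : ∀ c : C, π c = 1 ↔ (c : G) ∈ A' := by
    intro c
    rw [hπ, QuotientGroup.mk'_apply, QuotientGroup.eq_one_iff, Subgroup.mem_subgroupOf]
  let ιC : S →* C := ι.codRestrict C hιC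
  let κ : S →* K := π.comp ιC
  have hκ : ∀ s : S, κ s = 1 ↔ (s : W) ∈ A := by
    intro s
    show π (ιC s) = 1 ↔ _
    rw [hπ1]
    constructor
    · rintro ⟨a, ha, h⟩
      have h1 : a = s := hinj h
      rw [← h1]; exact ha
    · intro h
      exact ⟨s, h, rfl⟩
  -- the map on `S'`
  have hθS : ∀ s : S, θ s ∈ S' := fun s => by rw [← hrange]; exact ⟨s, rfl⟩
  let θ' : S →* S' := θ.codRestrict S' hθS
  have hθ's : Function.Surjective θ' := by
    intro y
    have h1 : (y : W') ∈ θ.range := by rw [hrange]; exact y.2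
    obtain ⟨s, hs⟩ := h1
    exact ⟨s, Subtype.ext hs⟩
  have hθ1 : ∀ s : S, θ' s = 1 ↔ (s : W) ∈ A := by
    intro s
    rw [← hker s]
    exact ⟨fun h => congrArg Subtype.val h, fun h => Subtype.ext h⟩
  obtain ⟨ι', hι'⟩ : ∃ ι' : S' →* K, ∀ s, ι' (θ' s) = κ s := by
    refine ⟨(θ'.liftOfSurjective hθ's ⟨κ, ?_⟩), fun s => ?_⟩
    · intro s hs
      rw [MonoidHom.mem_ker] at hs ⊢
      rw [hκ, ← hθ1]; exact hs
    · exact θ'.liftOfRightInverse_comp_apply _ _ _ _
  have hι'inj : Function.Injective ι' := by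
    rw [injective_iff_map_eq_one]
    intro y hy
    obtain ⟨s, rfl⟩ := hθ's y
    rw [hι', hκ] at hy
    exact (hθ1 s).2 hy
  -- a Sylow subgroup
  have hTC : (T : Subgroup G) ≤ C := by
    rw [hT]
    rintro _ ⟨s, rfl⟩
    exact hιC s
  let TC : Sylow p C := T.subtype hTC
  refine isRealizable_of ι' ⟨hι'inj, ?_⟩ (TC.mapSurjective hπs) ?_
  · intro P' hP' φ' hφ'
    rw [hmem]
    constructor
    · rintro ⟨-, φ, hφ, hP, hφS, h1, h2⟩
      obtain ⟨g, hg⟩ := (hreal _ hP φ hφS).1 hφ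
      have hgC : g ∈ C := by
        rw [hC, Subgroup.mem_centralizer_iff]
        rintro _ ⟨a, ha, rfl⟩
        have haP : (a : W) ∈ preimageAlong θ P' := H759.le_preimageAlong hAS hker ha
        have h3 := hg ⟨a, haP⟩
        have h4 : φ ⟨a, haP⟩ = a := H757.IsCentral.apply_eq hA hφ (x := ⟨a, haP⟩) ha
        have h5 : (⟨φ ⟨a, haP⟩, hφS _⟩ : S) = a := Subtype.ext h4
        rw [h5] at h3
        have h6 : ι a * g = (g * ι a * g⁻¹) * g := by rw [← h3]
        rw [h6]; group
      refine ⟨π ⟨g, hgC⟩, fun y => ?_⟩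
      obtain ⟨x, hxS, hxP, hxy⟩ := H759.exists_preimage_of_mem (E := E) ⟨hAS, hker, hrange, hmem⟩ hP' y.2
      have h3 := h2 ⟨x, hxP⟩
      have h4 : (⟨θ ⟨x, hP hxP⟩, h1 ⟨x, hxP⟩⟩ : P') = y := Subtype.ext hxy
      rw [h4] at h3
      have h5 : (⟨φ' y, hφ' y⟩ : S') = θ' ⟨φ ⟨x, hxP⟩, hφS _⟩ := Subtype.ext h3
      have h6 : (⟨y, hP' y.2⟩ : S') = θ' ⟨x, hxS⟩ := Subtype.ext hxy.symm
      rw [h5, h6, hι', hι']
      show π (ιC _) = π ⟨g, hgC⟩ * π (ιC _) * (π ⟨g, hgC⟩)⁻¹
      rw [← map_inv, ← map_mul, ← map_mul]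
      congr 1
      exact Subtype.ext (hg ⟨x, hxP⟩)
    · rintro ⟨k, hk⟩
      refine ⟨hP', ?_⟩
      obtain ⟨c, rfl⟩ := hπs k
      set P := preimageAlong θ P' with hPdef
      have hP : P ≤ S := H759.preimageAlong_le
      have h1 : ∀ x : P, θ ⟨x, hP x.2⟩ ∈ P' := fun x => (H759.mem_preimageAlong.1 x.2).2
      have key : ∀ x : P, ∃ s : S, (c : G) * ι ⟨x, hP x.2⟩ * (c : G)⁻¹ = ι s ∧
          θ s = φ' ⟨θ ⟨x, hP x.2⟩, h1 x⟩ := by
        intro x
        obtain ⟨s, hs⟩ := hθ's ⟨φ' ⟨θ ⟨x, hP x.2⟩, h1 x⟩, hφ' _⟩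
        have h2 := hk ⟨θ ⟨x, hP x.2⟩, h1 x⟩
        have h6 : (⟨θ ⟨x, hP x.2⟩, hP' (h1 x)⟩ : S') = θ' ⟨x, hP x.2⟩ := rfl
        rw [← hs] at h2
        have h7 : ι' (θ' s) = π c * ι' (θ' ⟨x, hP x.2⟩) * (π c)⁻¹ := h2
        rw [hι', hι'] at h7
        have h8 : π (ιC s) = π (c * ιC ⟨x, hP x.2⟩ * c⁻¹) := by
          rw [map_mul, map_mul, map_inv]; exact h7
        have h9 : π ((ιC s)⁻¹ * (c * ιC ⟨x, hP x.2⟩ * c⁻¹)) = 1 := by
          rw [map_mul, map_inv, h8, inv_mul_cancel]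
        rw [hπ1] at h9
        obtain ⟨a, ha, haeq⟩ := h9
        refine ⟨s * a, ?_, ?_⟩
        · rw [map_mul, haeq]
          show _ = ι s * ((ι s)⁻¹ * ((c : G) * ι ⟨x, hP x.2⟩ * (c : G)⁻¹))
          group
        · rw [map_mul, (hker a).2 ha, mul_one]
          exact congrArg Subtype.val hs
      choose f hf1 hf2 using key
      let φ : P →* W :=
        { toFun := fun x => f x
          map_one' := by
            have h2 := hf1 1
            have h3 : (⟨((1 : P) : W), hP (1 : P).2⟩ : S) = 1 := rfl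
            rw [h3, map_one, mul_one, mul_inv_cancel] at h2
            have h4 : f 1 = 1 := hinj (by rw [← h2, map_one])
            rw [h4]; rfl
          map_mul' := fun x y => by
            have h2 := hf1 (x * y)
            have h3 : (⟨((x * y : P) : W), hP (x * y).2⟩ : S) = ⟨x, hP x.2⟩ * ⟨y, hP y.2⟩ := rfl
            rw [h3, map_mul] at h2
            have h4 : f (x * y) = f x * f y := by
              apply hinj
              rw [← h2, map_mul, ← hf1 x, ← hf1 y]
              group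
            rw [h4]; rfl }
      refine ⟨φ, (hreal P hP φ (fun x => (f x).2)).2 ⟨c, fun x => (hf1 x).symm⟩, hP, fun x => (f x).2, h1,
        fun x => (hf2 x).symm⟩
  · rw [Sylow.coe_mapSurjective]
    ext y
    constructor
    · rintro ⟨c, hc, rfl⟩
      have h1 : (c : G) ∈ T := hc
      have h2 : (c : G) ∈ ι.range := by rw [← hT]; exact h1
      obtain ⟨s, hs⟩ := h2
      refine ⟨θ' s, ?_⟩
      rw [hι']
      show π (ιC s) = π c
      congr 1
      exact Subtype.ext hs
    · rintro ⟨z, rfl⟩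
      obtain ⟨s, rfl⟩ := hθ's z
      rw [hι']
      refine ⟨ιC s, ?_, rfl⟩
      show ι s ∈ (T : Subgroup G)
      rw [hT]
      exact ⟨s, rfl⟩

end Cfsg.Agent.H877.Lim
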